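import Mathlib
import Cfsg.Agent.H33.C3.Defs

/-!
# The centraliser of the monomial element of order 11 (piece C3-CENTZ of S2071, helper33)
-/

set_option autoImplicit false

namespace Cfsg.Agent.H33.C3

open Cfsg Cfsg.Agent.H9 Cfsg.Agent.H93
open scoped Pointwise

local notation "SC" => supports (golayCode : Set (GolayPt → ZMod 2))

/-! ### Generalities on monomial elements -/

theorem a48_apply : ∀ p : GolayPt,
    (Cfsg.Agent.H33.a48 : GolayPt → ℤ) p = if p = some 0 then 5 else 1 := by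
  decide +kernel

theorem actsAs_perm_unique {g : ↥Co0} {σ σ' : Equiv.Perm GolayPt} {c c' : Finset GolayPt}
    (h : ActsAs g σ c) (h' : ActsAs g σ' c') : σ = σ' := by
  apply Equiv.ext
  intro i
  by_contra hne
  have h1 := (h ⟨bvec i, bvec_mem i⟩).symm.trans (h' ⟨bvec i, bvec_mem i⟩)
  simp only at h1
  unfold bvec at h1
  rw [signedPerm_single, signedPerm_single] at h1
  have h3 := congrFun h1 (σ i)
  rw [Pi.single_eq_same, Pi.single_eq_of_ne hne] at h3
  split_ifs at h3 <;> norm_num at h3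

theorem actsAs_pow_empty {g : ↥Co0} {σ : Equiv.Perm GolayPt} (h : ActsAs g σ ∅) (n : ℕ) :
    ActsAs (g ^ n) (σ ^ n) ∅ := by
  induction n with
  | zero => rw [pow_zero, pow_zero]; exact actsAs_one
  | succ n ih =>
    have h1 := actsAs_mul ih h
    have e : symmDiff (∅ : Finset GolayPt) (σ ^ n • (∅ : Finset GolayPt)) = ∅ := by simp
    rw [e] at h1
    rw [pow_succ, pow_succ]
    exact h1

/-- a monomial element fixing `a48` has no sign changes and fixes the point `some 0` -/
theorem mono_fix_a48 {s : ↥Co0} {σ : Equiv.Perm GolayPt} {c : Finset GolayPt}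
    (hs : ActsAs s σ c)
    (hfix : (s : Equiv.Perm leechLattice) Cfsg.Agent.H33.a48 = Cfsg.Agent.H33.a48) :
    c = ∅ ∧ σ (some 0) = some 0 := by
  have h1 : ∀ i, signedPerm σ c (Cfsg.Agent.H33.a48 : GolayPt → ℤ) i
      = (Cfsg.Agent.H33.a48 : GolayPt → ℤ) i := by
    intro i
    rw [← hs Cfsg.Agent.H33.a48, hfix]
  have hpos : ∀ p : GolayPt, 0 < (Cfsg.Agent.H33.a48 : GolayPt → ℤ) p := by
    intro p
    rw [a48_apply]
    split_ifs <;> norm_num
  have hc : c = ∅ := by
    apply Finset.eq_empty_of_forall_notMem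
    intro i hi
    have h2 := h1 i
    unfold signedPerm at h2
    rw [if_pos hi] at h2
    have h3 := hpos (σ.symm i)
    have h4 := hpos i
    linarith
  refine ⟨hc, ?_⟩
  have h2 := h1 (some 0)
  unfold signedPerm at h2
  rw [hc] at h2
  simp only [Finset.notMem_empty, if_false] at h2
  rw [a48_apply, a48_apply] at h2
  simp only [if_true] at h2
  have h3 : σ.symm (some 0) = some 0 := by
    by_contra hne
    rw [if_neg hne] at h2
    norm_num at h2
  rw [Equiv.symm_apply_eq] at h3
  exact h3.symm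

/-! ### The orbits of the doubling map -/

theorem cover23 : ∀ y : ZMod 23, y = 0 ∨ (∃ k : Fin 11, y = 2 ^ (k : ℕ)) ∨
    (∃ k : Fin 11, y = -2 ^ (k : ℕ)) := by decide

theorem sq23 : ∀ k : Fin 11, (2 : ZMod 23) ^ (k : ℕ) ≠ 0 ∧ ((2 : ZMod 23) ^ (k : ℕ)) ^ 11 = 1 := by
  decide

theorem nsq23 : ∀ k : Fin 11, -(2 : ZMod 23) ^ (k : ℕ) ≠ 0 ∧
    ¬ (-(2 : ZMod 23) ^ (k : ℕ)) ^ 11 = 1 := by decide

theorem card_zero23 : (Finset.filter (fun y : ZMod 23 => y = 0) Finset.univ).card = 1 := by decide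

theorem card_sq23 : (Finset.filter (fun y : ZMod 23 => y ^ 11 = 1)
    (Finset.filter (fun y : ZMod 23 => ¬ y = 0) Finset.univ)).card = 11 := by decide

theorem card_nsq23 : (Finset.filter (fun y : ZMod 23 => ¬ y ^ 11 = 1)
    (Finset.filter (fun y : ZMod 23 => ¬ y = 0) Finset.univ)).card = 11 := by decide

theorem sum_cls (A C D : ℤ) :
    ∑ y : ZMod 23, (if y = 0 then A else if y ^ 11 = 1 then C else D) = A + 11 * C + 11 * D := by
  rw [Finset.sum_ite, Finset.sum_ite, Finset.sum_const, Finset.sum_const, Finset.sum_const,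
    card_zero23, card_sq23, card_nsq23]
  simp only [nsmul_eq_mul, Nat.cast_one, one_mul, Nat.cast_ofNat]
  ring

theorem dioph (a b c d : ℤ) (h1 : 4 * a + 4 * b = 32) (h2 : 5 * a + b + 11 * c + 11 * d = 40)
    (h3 : a ^ 2 + b ^ 2 + 11 * c ^ 2 + 11 * d ^ 2 = 64) : a = 8 ∧ b = 0 ∧ c = 0 ∧ d = 0 := by
  have hb : b = 8 - a := by linarith
  subst hb
  have ha1 : a ≤ 8 := by nlinarith [sq_nonneg (8 - a), sq_nonneg c, sq_nonneg d]
  have ha2 : -8 ≤ a := by nlinarith [sq_nonneg (8 - a), sq_nonneg c, sq_nonneg d]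
  have hc1 : c ≤ 2 := by nlinarith [sq_nonneg (8 - a), sq_nonneg a, sq_nonneg d]
  have hc2 : -2 ≤ c := by nlinarith [sq_nonneg (8 - a), sq_nonneg a, sq_nonneg d]
  have hd1 : d ≤ 2 := by nlinarith [sq_nonneg (8 - a), sq_nonneg a, sq_nonneg c]
  have hd2 : -2 ≤ d := by nlinarith [sq_nonneg (8 - a), sq_nonneg a, sq_nonneg c]
  interval_cases a <;> interval_cases c <;> interval_cases d <;> simp_all

/-! ### The centraliser -/

theorem dot_E_a48 : dotInt (bvec (some 0)) (Cfsg.Agent.H33.a48 : GolayPt → ℤ) = 40 := by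
  decide +kernel

theorem dot_E_U : dotInt (bvec (some 0)) Spor.vecU = 32 := by decide +kernel

/-- piece C3-CENTZ -/
theorem centZ (hM : StM24Cent) : StCentZ := by
  intro z hz s hsG hsU hcomm
  obtain ⟨E, hE⟩ : ∃ E : leechLattice, (E : GolayPt → ℤ) = bvec (some 0) :=
    ⟨⟨_, bvec_mem _⟩, rfl⟩
  have hsa : (s : Equiv.Perm leechLattice) Cfsg.Agent.H33.a48 = Cfsg.Agent.H33.a48 :=
    MulAction.mem_stabilizer_iff.mp hsG
  have hsu : (s : Equiv.Perm leechLattice) Spor.leechU = Spor.leechU := hsU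
  have hzE : (z : Equiv.Perm leechLattice) E = E := by
    apply Subtype.ext
    rw [hz E, hE]
    unfold bvec
    rw [signedPerm_single]
    have e : beta (some 0) = some 0 := by decide
    rw [e]
    simp
  obtain ⟨w, hw⟩ : ∃ w : leechLattice, w = (s : Equiv.Perm leechLattice) E := ⟨_, rfl⟩
  have hzw : (z : Equiv.Perm leechLattice) w = w := by
    have h1 : (z : Equiv.Perm leechLattice) ((s : Equiv.Perm leechLattice) E)
        = (s : Equiv.Perm leechLattice) ((z : Equiv.Perm leechLattice) E) :=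
      (congrArg (fun g : ↥Co0 => (g : Equiv.Perm leechLattice) E) hcomm).symm
    rw [hw, h1, hzE]
  have hinv : ∀ i, (w : GolayPt → ℤ) (beta.symm i) = (w : GolayPt → ℤ) i := by
    intro i
    have h1 := congrFun (hz w) i
    rw [hzw] at h1
    unfold signedPerm at h1
    simp only [Finset.notMem_empty, if_false] at h1
    exact h1.symm
  have hdbl : ∀ y : ZMod 23, (w : GolayPt → ℤ) (some (2 * y)) = (w : GolayPt → ℤ) (some y) := by
    intro y
    have h1 := hinv (some (2 * y))
    have e : beta.symm (some (2 * y)) = some y := by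
      rw [Equiv.symm_apply_eq]; rfl
    rw [e] at h1
    exact h1.symm
  obtain ⟨a, ha⟩ : ∃ a : ℤ, a = (w : GolayPt → ℤ) (some 0) := ⟨_, rfl⟩
  obtain ⟨b, hb⟩ : ∃ b : ℤ, b = (w : GolayPt → ℤ) none := ⟨_, rfl⟩
  obtain ⟨c, hc⟩ : ∃ c : ℤ, c = (w : GolayPt → ℤ) (some 1) := ⟨_, rfl⟩
  obtain ⟨d, hd⟩ : ∃ d : ℤ, d = (w : GolayPt → ℤ) (some (-1)) := ⟨_, rfl⟩
  have hQ : ∀ k : ℕ, (w : GolayPt → ℤ) (some (2 ^ k)) = c := by
    intro k
    induction k with
    | zero => rw [pow_zero, hc]
    | succ k ih => rw [pow_succ', hdbl, ih]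
  have hN : ∀ k : ℕ, (w : GolayPt → ℤ) (some (-2 ^ k)) = d := by
    intro k
    induction k with
    | zero => rw [pow_zero, hd]
    | succ k ih =>
      have e : (-2 ^ (k + 1) : ZMod 23) = 2 * (-2 ^ k) := by ring
      rw [e, hdbl, ih]
  have hval : ∀ y : ZMod 23, (w : GolayPt → ℤ) (some y)
      = if y = 0 then a else if y ^ 11 = 1 then c else d := by
    intro y
    rcases cover23 y with rfl | ⟨k, rfl⟩ | ⟨k, rfl⟩
    · rw [if_pos rfl, ha]
    · rw [if_neg (sq23 k).1, if_pos (sq23 k).2, hQ]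
    · rw [if_neg (nsq23 k).1, if_neg (nsq23 k).2, hN]
  -- the three equations
  have hn : sqNorm (w : GolayPt → ℤ) = 64 := by
    rw [hw, s.2.2 E, hE]
    exact sqNorm_bvec _
  have hda : dotInt (w : GolayPt → ℤ) (Cfsg.Agent.H33.a48 : GolayPt → ℤ) = 40 := by
    have h1 := dot_preserved s.2 E Cfsg.Agent.H33.a48
    rw [hsa, ← hw, hE, dot_E_a48] at h1
    exact h1
  have hdu : dotInt (w : GolayPt → ℤ) Spor.vecU = 32 := by
    have h1 := dot_preserved s.2 E Spor.leechU
    rw [hsu, ← hw, hE] at h1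
    have h2 : ((Spor.leechU : leechLattice) : GolayPt → ℤ) = Spor.vecU := rfl
    rw [h2, dot_E_U] at h1
    exact h1
  have e1 : a ^ 2 + b ^ 2 + 11 * c ^ 2 + 11 * d ^ 2 = 64 := by
    rw [← hn]
    unfold sqNorm
    rw [Fintype.sum_option, ← hb]
    have h1 : ∀ y : ZMod 23, (w : GolayPt → ℤ) (some y) ^ 2
        = if y = 0 then a ^ 2 else if y ^ 11 = 1 then c ^ 2 else d ^ 2 := by
      intro y
      rw [hval y]
      split_ifs <;> rfl
    rw [Finset.sum_congr rfl (fun y _ => h1 y), sum_cls]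
    ring
  have e2 : 5 * a + b + 11 * c + 11 * d = 40 := by
    rw [← hda]
    unfold dotInt
    rw [Fintype.sum_option, ← hb]
    have h1 : ∀ y : ZMod 23, (w : GolayPt → ℤ) (some y) * (Cfsg.Agent.H33.a48 : GolayPt → ℤ) (some y)
        = if y = 0 then 5 * a else if y ^ 11 = 1 then c else d := by
      intro y
      rw [hval y, a48_apply]
      by_cases h0 : y = 0
      · subst h0; simp; ring
      · have h0' : ¬ (some y : GolayPt) = some 0 := fun h => h0 (Option.some.inj h)
        rw [if_neg h0, if_neg h0, if_neg h0', mul_one]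
    rw [Finset.sum_congr rfl (fun y _ => h1 y), sum_cls, a48_apply]
    simp
    ring
  have e3 : 4 * a + 4 * b = 32 := by
    rw [← hdu]
    unfold dotInt
    rw [Fintype.sum_option, ← hb]
    have h1 : ∀ y : ZMod 23, (w : GolayPt → ℤ) (some y) * Spor.vecU (some y)
        = if y = 0 then 4 * a else if y ^ 11 = 1 then 0 else 0 := by
      intro y
      rw [hval y]
      unfold Spor.vecU
      by_cases h0 : y = 0
      · subst h0; simp; ring
      · have h0' : ¬ (some y : GolayPt) = some 0 := fun h => h0 (Option.some.inj h)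
        simp [h0]
    rw [Finset.sum_congr rfl (fun y _ => h1 y), sum_cls]
    unfold Spor.vecU
    simp
    ring
  obtain ⟨ra, rb, rc, rd⟩ := dioph a b c d e3 e2 e1
  -- s fixes E
  have hwE : w = E := by
    apply Subtype.ext
    rw [hE]
    funext i
    unfold bvec
    rcases i with _ | y
    · rw [← hb, rb]; simp
    · rw [hval y, ra, rc, rd]
      by_cases h0 : y = 0
      · subst h0; simp
      · have h0' : (some y : GolayPt) ≠ some 0 := fun h => h0 (Option.some.inj h)
        rw [Pi.single_eq_of_ne h0']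
        simp [h0]
  have hsE : (s : Equiv.Perm leechLattice) E = E := by rw [← hw, hwE]
  -- s stabilises the standard cross
  have hcross : s ∈ crossStab := by
    have hclE : cl (E : GolayPt → ℤ) = cl (E0 : GolayPt → ℤ) :=
      ((mem_stdCross_iff E.2).mp (by rw [hE]; exact ⟨some 0, 8, Or.inl rfl, rfl⟩)).2
    rw [mem_crossStab, cl_map_of s.2 hclE.symm, hsE]
    exact hclE
  obtain ⟨σ, hσ, c', hc', hs⟩ := crossStab_actsAs s hcross
  obtain ⟨hc0, hσ0⟩ := mono_fix_a48 hs hsa
  subst hc0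
  -- σ fixes `none`
  have hσn : σ none = none := by
    have h1 := congrFun (hs Spor.leechU) none
    rw [hsu] at h1
    unfold signedPerm at h1
    simp only [Finset.notMem_empty, if_false] at h1
    have h2 : ((Spor.leechU : leechLattice) : GolayPt → ℤ) = Spor.vecU := rfl
    rw [h2] at h1
    unfold Spor.vecU at h1
    simp only [true_or, if_true] at h1
    have h3 : σ.symm none = none ∨ σ.symm none = some 0 := by
      by_contra hne
      rw [if_neg hne] at h1
      norm_num at h1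
    rcases h3 with h3 | h3
    · rw [Equiv.symm_apply_eq] at h3
      exact h3.symm
    · exfalso
      rw [Equiv.symm_apply_eq] at h3
      rw [hσ0] at h3
      cases h3
  -- σ commutes with the doubling map
  have hσc : σ * beta = beta * σ := by
    have h1 := actsAs_mul hs hz
    have h2 := actsAs_mul hz hs
    rw [hcomm] at h1
    exact actsAs_perm_unique h1 h2
  have hmem := hM σ hσ hσn hσ0 hσc
  rw [← mem_powers_iff_mem_zpowers] at hmem
  obtain ⟨m, hm⟩ := hmem
  have hzm := actsAs_pow_empty hz m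
  have hm' : beta ^ m = σ := hm
  rw [hm'] at hzm
  have hsz : s = z ^ m := actsAs_ext hs hzm
  rw [hsz]
  exact Subgroup.pow_mem _ (Subgroup.mem_zpowers z) m

example : Cfsg.Agent.H33.C3.StM24Cent → Cfsg.Agent.H33.C3.StCentZ := centZ

end Cfsg.Agent.H33.C3
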