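import Mathlib
import Cfsg.Agent.H33.C3.CentZ
import Cfsg.Agent.H9.M12

/-!
# The centraliser of the doubling map in the stabiliser of two points of the Mathieu group
(piece C3-M24CENT of S2071, helper33)
-/

set_option autoImplicit false

namespace Cfsg.Agent.H33.C3

open Cfsg Cfsg.Agent.H9
open scoped Pointwise

/-- the candidate map on indices: `y ↦ y p` on the squares, `y ↦ (-y) q` on the non-squares -/
def phiN (p q y : ℕ) : ℕ :=
  bif Nat.beq y 0 then 0 else bif Nat.beq (Nat.mod (Nat.pow y 11) 23) 1 then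
    Nat.mod (Nat.mul y p) 23 else Nat.mod (Nat.mul (Nat.sub 23 y) q) 23

/-- the packed code of the candidate -/
def candAux (p q : ℕ) : ℕ → ℕ
  | 0 => Nat.shiftLeft 23 115
  | i + 1 => Nat.add (Nat.shiftLeft (phiN p q i) (Nat.mul 5 i)) (candAux p q i)

/-- the packed code of the candidate -/
def candP (p q : ℕ) : ℕ := candAux p q 23

theorem lk_cand : allB (fun p => allB (fun q =>
    allB (fun y => Nat.beq (lk (candP p q) y) (phiN p q y)) 23 &&
      Nat.beq (lk (candP p q) 23) 23) 23) 23 = true := by decide +kernel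

theorem cand_good : allB (fun p => allB (fun q => Nat.beq p 0 || (Nat.beq q 0 ||
    (!(chkM24 (candP p q)) || (Nat.beq (Nat.mod (Nat.pow p 11) 23) 1 &&
      Nat.beq (Nat.mod (Nat.add p q) 23) 0)))) 23) 23 = true := by decide +kernel

theorem basis_ok : ∀ b ∈ basisL, b < 2 ^ 24 ∧ isGolay b = true := by decide +kernel

theorem phi_val : ∀ p q y : ZMod 23,
    (if y = 0 then (0 : ZMod 23) else if y ^ 11 = 1 then y * p else -y * q).val
      = phiN p.val q.val y.val := by decide +kernel

theorem neg_of_sum : ∀ p q : ZMod 23, (p.val + q.val) % 23 = 0 → q = -p := by decide +kernel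

theorem pow_of_qr : ∀ p : ZMod 23, p.val ^ 11 % 23 = 1 → ∃ k : Fin 11, p = 2 ^ (k : ℕ) := by
  decide +kernel

theorem beta_pow_none (k : ℕ) : (beta ^ k) none = none := by
  induction k with
  | zero => rfl
  | succ k ih => rw [pow_succ, Equiv.Perm.mul_apply]; exact ih

theorem beta_pow_some (k : ℕ) (y : ZMod 23) : (beta ^ k) (some y) = some (2 ^ k * y) := by
  induction k generalizing y with
  | zero => simp
  | succ k ih =>
    rw [pow_succ, Equiv.Perm.mul_apply]
    have e : beta (some y) = some (2 * y) := rfl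
    rw [e, ih]
    congr 1
    ring

/-- piece C3-M24CENT -/
theorem m24Cent : StM24Cent := by
  intro σ hσ hnone hzero hcomm
  have hb : ∀ v : GolayPt, σ (beta v) = beta (σ v) := by
    intro v
    have h1 := congrArg (fun f : Equiv.Perm GolayPt => f v) hcomm
    simp only [Equiv.Perm.mul_apply] at h1
    exact h1
  have hsome : ∀ y : ZMod 23, y ≠ 0 → ∃ u : ZMod 23, u ≠ 0 ∧ σ (some y) = some u := by
    intro y hy
    rcases h : σ (some y) with _ | u
    · exfalso
      rw [← hnone] at h
      exact absurd (σ.injective h) (by simp)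
    · refine ⟨u, ?_, rfl⟩
      rintro rfl
      rw [← hzero] at h
      exact hy (Option.some.inj (σ.injective h))
  obtain ⟨p, hp0, hp⟩ := hsome 1 (by decide)
  obtain ⟨q, hq0, hq⟩ := hsome (-1) (by decide)
  have hdbl : ∀ y u : ZMod 23, σ (some y) = some u → σ (some (2 * y)) = some (2 * u) := by
    intro y u h
    have h1 := hb (some y)
    have e : beta (some y) = some (2 * y) := rfl
    rw [e, h] at h1
    exact h1
  have hQ : ∀ k : ℕ, σ (some (2 ^ k)) = some (2 ^ k * p) := by
    intro k
    induction k with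
    | zero => rw [pow_zero, one_mul]; exact hp
    | succ k ih =>
      rw [pow_succ', hdbl _ _ ih]
      congr 1
      ring
  have hN : ∀ k : ℕ, σ (some (-2 ^ k)) = some (2 ^ k * q) := by
    intro k
    induction k with
    | zero => rw [pow_zero, one_mul]; exact hq
    | succ k ih =>
      have e : (-2 ^ (k + 1) : ZMod 23) = 2 * (-2 ^ k) := by ring
      rw [e, hdbl _ _ ih]
      congr 1
      ring
  have hval : ∀ y : ZMod 23, σ (some y)
      = some (if y = 0 then (0 : ZMod 23) else if y ^ 11 = 1 then y * p else -y * q) := by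
    intro y
    rcases cover23 y with rfl | ⟨k, rfl⟩ | ⟨k, rfl⟩
    · rw [if_pos rfl]; exact hzero
    · rw [if_neg (sq23 k).1, if_pos (sq23 k).2, hQ]
    · rw [if_neg (nsq23 k).1, if_neg (nsq23 k).2, hN]
      congr 1
      ring
  have hlk := (allB_iff _ _).mp ((allB_iff _ _).mp lk_cand p.val (ZMod.val_lt p)) q.val
    (ZMod.val_lt q)
  simp only [Bool.and_eq_true] at hlk
  obtain ⟨hlk1, hlk2⟩ := hlk
  have hrep : Rep (candP p.val q.val) σ := by
    intro pt
    rcases pt with _ | y
    · rw [hnone]
      exact (Nat.eq_of_beq_eq_true hlk2).symm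
    · rw [hval y]
      show (if y = 0 then (0 : ZMod 23) else if y ^ 11 = 1 then y * p else -y * q).val
        = lk (candP p.val q.val) y.val
      rw [phi_val, Nat.eq_of_beq_eq_true ((allB_iff _ _).mp hlk1 y.val (ZMod.val_lt y))]
  have hchk : chkM24 (candP p.val q.val) = true := by
    unfold chkM24
    rw [List.all_eq_true]
    intro b hb'
    obtain ⟨hb1, hb2⟩ := basis_ok b hb'
    have h1 : σ • fs b ∈ supports (golayCode : Set (GolayPt → ZMod 2)) :=
      smul_mem_supports hσ ((fs_mem_supports_iff hb1).mpr hb2)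
    rw [smul_fs hrep] at h1
    exact (fs_mem_supports_iff (imgN_lt_of_rep hrep b)).mp h1
  have hgood := (allB_iff _ _).mp ((allB_iff _ _).mp cand_good p.val (ZMod.val_lt p)) q.val
    (ZMod.val_lt q)
  have hpv : p.val ≠ 0 := fun h => hp0 ((ZMod.val_eq_zero p).mp h)
  have hqv : q.val ≠ 0 := fun h => hq0 ((ZMod.val_eq_zero q).mp h)
  simp only [Bool.or_eq_true, Bool.and_eq_true, Nat.beq_eq, Bool.not_eq_true', hpv, hqv,
    false_or, hchk, Bool.true_eq_false] at hgood
  obtain ⟨hg1, hg2⟩ := hgood
  obtain ⟨k, hk⟩ := pow_of_qr p hg1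
  have hqp : q = -p := neg_of_sum p q hg2
  have hσeq : σ = beta ^ (k : ℕ) := by
    apply Equiv.ext
    intro pt
    rcases pt with _ | y
    · rw [hnone, beta_pow_none]
    · rw [hval y, beta_pow_some, hqp, hk]
      congr 1
      split_ifs with h1 h2
      · rw [h1, mul_zero]
      · ring
      · ring
  rw [hσeq]
  exact Subgroup.pow_mem _ (Subgroup.mem_zpowers beta) _

example : Cfsg.Agent.H33.C3.StM24Cent := m24Cent

end Cfsg.Agent.H33.C3
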