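import Mathlib
import Cfsg.Agent.H33.C3.CentZ

/-!
# The centraliser of the monomial element of order 23 (piece C3-CENTX of S2071, helper33)
-/

set_option autoImplicit false

namespace Cfsg.Agent.H33.C3

open Cfsg Cfsg.Agent.H9 Cfsg.Agent.H93
open scoped Pointwise

theorem tau_pow23 : tau ^ 23 = 1 := by decide +kernel

theorem tau_ne_one : tau ≠ 1 := by decide +kernel

theorem tau_zero : tau (some 0) = some 0 := by decide +kernel

/-- `tau` is transitive on the points other than `some 0` -/
theorem tau_trans : ∀ p : GolayPt, p ≠ some 0 → ∃ n : Fin 23, (tau ^ (n : ℕ)) none = p := by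
  decide +kernel

theorem tau_pow_zero (k : ℕ) : (tau ^ k) (some 0) = some 0 := by
  induction k with
  | zero => rfl
  | succ k ih => rw [pow_succ, Equiv.Perm.mul_apply, tau_zero, ih]

/-- piece C3-CENTX -/
theorem centX : StCentX := by
  intro x hx s hsG hcomm
  have hsa : (s : Equiv.Perm leechLattice) Cfsg.Agent.H33.a48 = Cfsg.Agent.H33.a48 :=
    MulAction.mem_stabilizer_iff.mp hsG
  have hxN : x ∈ crossStab := actsAs_mem_crossStab hx
  have hx23 : x ^ 23 = 1 := by
    have h1 := actsAs_pow_empty hx 23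
    rw [tau_pow23] at h1
    exact actsAs_ext h1 actsAs_one
  have hx1 : x ≠ 1 := by
    rintro rfl
    exact tau_ne_one (actsAs_one_perm hx)
  have hsN : s ∈ crossStab := centralizer23_le x s hxN hx23 hx1 hcomm
  obtain ⟨σ, hσ, c, hc, hs⟩ := crossStab_actsAs s hsN
  obtain ⟨hc0, hσ0⟩ := mono_fix_a48 hs hsa
  subst hc0
  have hσc : σ * tau = tau * σ := by
    have h1 := actsAs_mul hs hx
    have h2 := actsAs_mul hx hs
    rw [hcomm] at h1
    exact actsAs_perm_unique h1 h2
  have hne : σ none ≠ some 0 := by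
    intro h
    have h1 : σ none = σ (some 0) := by rw [h, hσ0]
    exact absurd (σ.injective h1) (by simp)
  obtain ⟨n, hn⟩ := tau_trans (σ none) hne
  have hcomm_pow : ∀ k : ℕ, σ * tau ^ k = tau ^ k * σ := fun k =>
    ((show Commute σ tau from hσc).pow_right k).eq
  have hσeq : σ = tau ^ (n : ℕ) := by
    apply Equiv.ext
    intro p
    by_cases hp : p = some 0
    · subst hp
      rw [hσ0, tau_pow_zero]
    · obtain ⟨k, hk⟩ := tau_trans p hp
      rw [← hk]
      have h1 : σ ((tau ^ (k : ℕ)) none) = (tau ^ (k : ℕ)) (σ none) := by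
        have h2 := congrArg (fun f : Equiv.Perm GolayPt => f none) (hcomm_pow k)
        simp only [Equiv.Perm.mul_apply] at h2
        exact h2
      rw [h1, ← hn, ← Equiv.Perm.mul_apply, ← Equiv.Perm.mul_apply, ← pow_add, ← pow_add,
        add_comm]
  have hxn := actsAs_pow_empty hx n
  rw [← hσeq] at hxn
  have hsx : s = x ^ (n : ℕ) := actsAs_ext hs hxn
  rw [hsx]
  exact Subgroup.pow_mem _ (Subgroup.mem_zpowers x) _

example : Cfsg.Agent.H33.C3.StCentX := centX

end Cfsg.Agent.H33.C3
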