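import Cfsg.Agent.H33.C3.Data
import Cfsg.Agent.H33.LChunk

/-!
# Kernel checks of the stabiliser chain data (helper33)
-/

set_option autoImplicit false
set_option maxRecDepth 100000

namespace Cfsg.Agent.H33.C3

open Cfsg Cfsg.Agent.H9

theorem chkN_p0 : allB chkN 218 = true := by decide +kernel
theorem chkN_p1 : allB (fun k => chkN (Nat.add 218 k)) 218 = true := by decide +kernel
theorem chkN_p2 : allB (fun k => chkN (Nat.add 436 k)) 218 = true := by decide +kernel
theorem chkN_p3 : allB (fun k => chkN (Nat.add 654 k)) 218 = true := by decide +kernel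
theorem chkN_p4 : allB (fun k => chkN (Nat.add 872 k)) 218 = true := by decide +kernel
theorem chkN_p5 : allB (fun k => chkN (Nat.add 1090 k)) 218 = true := by decide +kernel
theorem chkN_all : allB chkN 1308 = true :=
  (allB_append _ 1090 218 1308 rfl (allB_append _ 872 218 1090 rfl (allB_append _ 654 218 872 rfl (allB_append _ 436 218 654 rfl (allB_append _ 218 218 436 rfl chkN_p0 chkN_p1) chkN_p2) chkN_p3) chkN_p4) chkN_p5)
theorem nC_0 : allB (fun p => Nat.beq (g16 (nC 0) p) (g16 cX p)) 552 = true := by decide +kernel
theorem nC_1 : allB (fun p => Nat.beq (g16 (nC 1) p) (g16 cZ p)) 552 = true := by decide +kernel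
theorem nC_2 : allB (fun p => Nat.beq (g16 (nC 2) p) (g16 cT p)) 552 = true := by decide +kernel
theorem chkT_0 : allB (chkT tr0 552 0) 552 = true := by decide +kernel
theorem chkT_1 : allB (chkT tr1 275 1) 275 = true := by decide +kernel
theorem chkT_2 : allB (chkT tr2 162 2) 162 = true := by decide +kernel
theorem chkT_3 : allB (chkT tr3 105 3) 105 = true := by decide +kernel
theorem chkT_4 : allB (chkT tr4 4 4) 4 = true := by decide +kernel
theorem chkT_5 : allB (chkT tr5 3 5) 3 = true := by decide +kernel
theorem chkT_6 : allB (chkT tr6 16 6) 16 = true := by decide +kernel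

end Cfsg.Agent.H33.C3
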