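import Mathlib
import Cfsg.Agent.H33.C3.Chk
import Cfsg.Agent.H69.MclOrbStab

/-!
# The lower bound for the order of the permutation group on the 552 table vectors
(piece C3-CHAIN of S2071, helper33; the certificate format and the proofs follow helper6's
`Cfsg/Agent/H6/McLOut.lean`)
-/

set_option autoImplicit false

namespace Cfsg.Agent.H33.C3

open Cfsg Cfsg.Agent.H9

theorem lt_of_succ_lt' (f : ℕ → ℕ) (n : ℕ) (hs : ∀ e, e + 1 < n → f e < f (e + 1)) :
    ∀ i j, i < j → j < n → f i < f j := by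
  intro i j hij
  induction j with
  | zero => omega
  | succ j ih =>
    intro hj
    rcases Nat.lt_succ_iff_lt_or_eq.mp hij with h1 | h1
    · exact (ih h1 (by omega)).trans (hs j hj)
    · subst h1; exact hs i hj

theorem inj_succ (f : ℕ → ℕ) (n : ℕ) (hs : ∀ e, e + 1 < n → f e < f (e + 1)) :
    ∀ i j, i < n → j < n → f i = f j → i = j := by
  intro i j hi hj e
  rcases Nat.lt_trichotomy i j with h | h | h
  · exact absurd e (lt_of_succ_lt' f n hs i j h hj).ne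
  · exact h
  · exact absurd e.symm (lt_of_succ_lt' f n hs j i h hi).ne

theorem allB_beq (f g : ℕ → ℕ) (n : ℕ) :
    allB (fun p => Nat.beq (f p) (g p)) n = true ↔ ∀ p < n, f p = g p := by
  rw [allB_iff]
  constructor
  · intro h j hj
    exact Nat.eq_of_beq_eq_true (h j hj)
  · intro h j hj
    rw [h j hj]
    exact Nat.beq_refl _

theorem PRep.congr {g : Equiv.Perm (Fin 552)} {a b : ℕ} (hg : PRep g a)
    (e : ∀ p < 552, g16 b p = g16 a p) : PRep g b := fun j => by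
  rw [hg j]
  exact (e j.val j.isLt).symm

theorem prep_pX : PRep pX cX := prep_permOf _ _ _
theorem prep_pZ : PRep pZ cZ := prep_permOf _ _ _
theorem prep_pT : PRep pT cT := prep_permOf _ _ _
theorem pX_mem : pX ∈ K3 := Subgroup.subset_closure (Set.mem_insert _ _)
theorem pZ_mem : pZ ∈ K3 :=
  Subgroup.subset_closure (Set.mem_insert_of_mem _ (Set.mem_insert _ _))
theorem pT_mem : pT ∈ K3 :=
  Subgroup.subset_closure (Set.mem_insert_of_mem _ (Set.mem_insert_of_mem _ (Set.mem_singleton _)))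

theorem node_sound : ∀ k, k < 1308 → ∃ g ∈ K3, PRep g (nC k) := by
  intro k
  induction k using Nat.strong_induction_on with
  | _ k ih =>
    intro hk
    have hc := (allB_iff _ _).mp chkN_all k hk
    simp only [chkN, Bool.or_eq_true, Bool.and_eq_true, Nat.blt_eq] at hc
    rcases hc with hc | ⟨ha, hb, he⟩
    · interval_cases k
      · exact ⟨pX, pX_mem, prep_pX.congr ((allB_beq _ _ _).mp nC_0)⟩
      · exact ⟨pZ, pZ_mem, prep_pZ.congr ((allB_beq _ _ _).mp nC_1)⟩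
      · exact ⟨pT, pT_mem, prep_pT.congr ((allB_beq _ _ _).mp nC_2)⟩
    · obtain ⟨ga, hga, ra⟩ := ih _ ha (by omega)
      obtain ⟨gb, hgb, rb⟩ := ih _ hb (by omega)
      refine ⟨ga * gb, K3.mul_mem hga hgb, fun p => ?_⟩
      rw [Equiv.Perm.mul_apply, ra, rb]
      exact ((allB_beq _ _ _).mp he p.val p.isLt).symm

theorem tr_sound (l : List (ℕ × ℕ)) (n lv : ℕ) (hlv : lv < 552)
    (h : allB (chkT l n lv) n = true) :
    ∃ O : Finset (Fin 552), O.card = n ∧ ∀ q ∈ O, ∃ g ∈ K3,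
      (∀ p : Fin 552, p.val < lv → g p = p) ∧ g ⟨lv, hlv⟩ = q := by
  classical
  have hc : ∀ t < n, (trE l t).2 < 1308 ∧ (trE l t).1 < 552 ∧
      (∀ p < lv, g16 (nC (trE l t).2) p = p) ∧ g16 (nC (trE l t).2) lv = (trE l t).1 ∧
      (t + 1 < n → (trE l t).1 < (trE l (t + 1)).1) := by
    intro t ht
    have h0 := (allB_iff _ _).mp h t ht
    simp only [chkT, Bool.and_eq_true, Bool.or_eq_true, Nat.blt_eq, Nat.beq_eq] at h0
    obtain ⟨h1, h2, h3, h4, h5⟩ := h0
    refine ⟨h1, h2, (allB_beq _ _ _).mp h3, h4, fun hlt => ?_⟩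
    rcases h5 with h5 | h5
    · omega
    · exact h5
  let f : Fin n → Fin 552 := fun t => ⟨(trE l t).1 % 552, Nat.mod_lt _ (by norm_num)⟩
  have hf : Function.Injective f := by
    intro t t' e
    have e1 : (trE l t).1 % 552 = (trE l t').1 % 552 := congrArg Fin.val e
    rw [Nat.mod_eq_of_lt (hc t t.2).2.1, Nat.mod_eq_of_lt (hc t' t'.2).2.1] at e1
    exact Fin.ext (inj_succ (fun t => (trE l t).1) n
      (fun e he => (hc e (by omega)).2.2.2.2 he) t t' t.2 t'.2 e1)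
  refine ⟨Finset.univ.image f, ?_, ?_⟩
  · rw [Finset.card_image_of_injective _ hf, Finset.card_univ, Fintype.card_fin]
  · intro q hq
    rw [Finset.mem_image] at hq
    obtain ⟨t, -, rfl⟩ := hq
    obtain ⟨h1, h2, h3, h4, -⟩ := hc t t.2
    obtain ⟨g, hg, rg⟩ := node_sound _ h1
    refine ⟨g, hg, fun p hp => ?_, ?_⟩
    · exact Fin.ext ((rg p).trans (h3 p.val hp))
    · apply Fin.ext
      show (g ⟨lv, hlv⟩).val = (trE l t).1 % 552
      rw [Nat.mod_eq_of_lt h2, ← h4]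
      exact rg ⟨lv, hlv⟩

/-- the point `l` -/
def bpt (l : ℕ) : Fin 552 := ⟨l % 552, Nat.mod_lt _ (by norm_num)⟩

/-- the stabiliser in `K3` of the points below `l` -/
def Hs : ℕ → Subgroup (Equiv.Perm (Fin 552))
  | 0 => K3
  | l + 1 => Hs l ⊓ MulAction.stabilizer (Equiv.Perm (Fin 552)) (bpt l)

theorem mem_Hs : ∀ l, l ≤ 552 → ∀ g : Equiv.Perm (Fin 552),
    g ∈ Hs l ↔ g ∈ K3 ∧ ∀ p : Fin 552, p.val < l → g p = p := by
  intro l
  induction l with
  | zero =>
    intro _ g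
    show g ∈ K3 ↔ _
    constructor
    · intro h
      exact ⟨h, fun p hp => absurd hp (Nat.not_lt_zero _)⟩
    · exact fun h => h.1
  | succ l ih =>
    intro hl g
    show g ∈ Hs l ⊓ MulAction.stabilizer (Equiv.Perm (Fin 552)) (bpt l) ↔ _
    rw [Subgroup.mem_inf, ih (by omega), MulAction.mem_stabilizer_iff, Equiv.Perm.smul_def]
    constructor
    · rintro ⟨⟨h1, h2⟩, h3⟩
      refine ⟨h1, fun p hp => ?_⟩
      rcases Nat.lt_succ_iff_lt_or_eq.mp hp with h | h
      · exact h2 p h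
      · have : p = bpt l := Fin.ext (by rw [h]; exact (Nat.mod_eq_of_lt (by omega)).symm)
        rw [this]
        exact h3
    · rintro ⟨h1, h2⟩
      refine ⟨⟨h1, fun p hp => h2 p (by omega)⟩, ?_⟩
      exact h2 (bpt l) (by show l % 552 < l + 1; rw [Nat.mod_eq_of_lt (by omega)]; omega)

theorem bpt_eq (l : ℕ) (hl : l < 552) : bpt l = ⟨l, hl⟩ := Fin.ext (Nat.mod_eq_of_lt hl)

theorem level_le (l : List (ℕ × ℕ)) (n lv : ℕ) (hlv : lv < 552)
    (h : allB (chkT l n lv) n = true) : n * Nat.card ↥(Hs (lv + 1)) ≤ Nat.card ↥(Hs lv) := by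
  obtain ⟨O, hO, hq⟩ := tr_sound l n lv hlv h
  have := Cfsg.Agent.H69.Mcl.orbit_stab_le (Hs lv) (bpt lv) O (fun q hq' => by
    obtain ⟨g, hg, h1, h2⟩ := hq q hq'
    refine ⟨g, (mem_Hs lv (by omega) g).mpr ⟨hg, h1⟩, ?_⟩
    rw [bpt_eq lv hlv]
    exact h2)
  rw [hO] at this
  exact this

/-- piece C3-CHAIN -/
theorem chain : StChain := by
  have h0 : 552 * Nat.card ↥(Hs 1) ≤ Nat.card ↥(Hs 0) :=
    level_le tr0 552 0 (by norm_num) chkT_0
  have h1 : 275 * Nat.card ↥(Hs 2) ≤ Nat.card ↥(Hs 1) :=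
    level_le tr1 275 1 (by norm_num) chkT_1
  have h2 : 162 * Nat.card ↥(Hs 3) ≤ Nat.card ↥(Hs 2) :=
    level_le tr2 162 2 (by norm_num) chkT_2
  have h3 : 105 * Nat.card ↥(Hs 4) ≤ Nat.card ↥(Hs 3) :=
    level_le tr3 105 3 (by norm_num) chkT_3
  have h4 : 4 * Nat.card ↥(Hs 5) ≤ Nat.card ↥(Hs 4) :=
    level_le tr4 4 4 (by norm_num) chkT_4
  have h5 : 3 * Nat.card ↥(Hs 6) ≤ Nat.card ↥(Hs 5) :=
    level_le tr5 3 5 (by norm_num) chkT_5
  have h6 : 16 * Nat.card ↥(Hs 7) ≤ Nat.card ↥(Hs 6) :=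
    level_le tr6 16 6 (by norm_num) chkT_6
  have h7 : 0 < Nat.card ↥(Hs 7) := Nat.card_pos
  have e : Nat.card ↥(Hs 0) = Nat.card ↥K3 := rfl
  show 495766656000 ≤ Nat.card ↥K3
  omega

example : Cfsg.Agent.H33.C3.StChain := chain

end Cfsg.Agent.H33.C3
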