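import Mathlib
import Cfsg.Prelude.Def_Spor_Conway
import Cfsg.Agent.H33.C3.Defs
import Cfsg.Agent.H33.LCo3Simple

/-!
# The third Conway group of the Prelude and the stabiliser of the standard vector

Piece C3-ISO of the team project S2071 (helper33).
-/

set_option autoImplicit false

namespace Cfsg.Agent.H33.C3

open Cfsg Cfsg.Agent.H9 Cfsg.Agent.H33

theorem vecV_sq48 : sqNorm Spor.vecV = 48 := by decide +kernel

/-- the group of the Prelude as a stabiliser in the automorphism group of the lattice -/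
noncomputable def co3Equiv : ↥Spor.Co3 ≃* ↥(MulAction.stabilizer ↥Co0 Spor.leechV) where
  toFun g := ⟨⟨g.1, g.2.1⟩, MulAction.mem_stabilizer_iff.mpr (MulAction.mem_stabilizer_iff.mp g.2.2)⟩
  invFun g := ⟨g.1.1, ⟨g.1.2, MulAction.mem_stabilizer_iff.mpr (MulAction.mem_stabilizer_iff.mp g.2)⟩⟩
  left_inv _ := rfl
  right_inv _ := rfl
  map_mul' _ _ := rfl

/-- piece C3-ISO -/
theorem iso : StIso := by
  have hv : sqNorm ((Spor.leechV : leechLattice) : GolayPt → ℤ) = 48 := vecV_sq48
  obtain ⟨h, hh, he⟩ := co0_trans48 Spor.leechV a48 hv a48_sq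
  exact ⟨co3Equiv.trans (conjEquiv _ _ (⟨h, hh⟩ : ↥Co0) (stab_conj h hh Spor.leechV a48 he))⟩

example : Cfsg.Agent.H33.C3.StIso := iso

end Cfsg.Agent.H33.C3
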