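import Mathlib
import Cfsg.Agent.H33.C3.Defs

/-!
# The table vector number 551 (piece C3-U551 of S2071, helper33)
-/

set_option autoImplicit false

namespace Cfsg.Agent.H33.C3

open Cfsg Cfsg.Agent.H9 Cfsg.Agent.H33

theorem u551_apply : ∀ p : GolayPt, vec (fldW 192 LF552E 551) p = Spor.vecU p := by
  decide +kernel

/-- piece C3-U551 -/
theorem u551 : StU551 := funext u551_apply

example : Cfsg.Agent.H33.C3.StU551 := u551

end Cfsg.Agent.H33.C3
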