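import Mathlib
import Cfsg.Agent.H33.C3.Defs

/-!
# The two coordinate permutations as elements of the stabiliser, acting on the 552 table vectors
(pieces C3-WX and C3-WZ of S2071, helper33)
-/

set_option autoImplicit false
set_option maxRecDepth 100000

namespace Cfsg.Agent.H33.C3

open Cfsg Cfsg.Agent.H9 Cfsg.Agent.H93 Cfsg.Agent.H33

/-- the packed code of `tau⁻¹` -/
def qX : ℕ := 0xdc4d49de559268b0e26aba8a94180
/-- the packed code of `beta⁻¹` -/
def qZ : ℕ := 0xbaecaaa68899e468960478dc268580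

theorem rep_qX : Rep qX tau⁻¹ := by decide +kernel
theorem rep_qZ : Rep qZ beta⁻¹ := by decide +kernel

theorem tauInv_mem : tau⁻¹ ∈ M24 := mem_M24_of_chk rep_qX (by decide +kernel)
theorem betaInv_mem : beta⁻¹ ∈ M24 := mem_M24_of_chk rep_qZ (by decide +kernel)

theorem tabX : allB (fun j => Nat.beq (pmV qX (fldW 192 LF552E j))
    (fldW 192 LF552E (g16 cX j))) 552 = true := by decide +kernel

theorem tabZ : allB (fun j => Nat.beq (pmV qZ (fldW 192 LF552E j))
    (fldW 192 LF552E (g16 cZ j))) 552 = true := by decide +kernel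

theorem a48_tau : ∀ i : GolayPt, (a48 : GolayPt → ℤ) (tau⁻¹ i) = (a48 : GolayPt → ℤ) i := by
  decide +kernel

theorem a48_beta : ∀ i : GolayPt, (a48 : GolayPt → ℤ) (beta⁻¹ i) = (a48 : GolayPt → ℤ) i := by
  decide +kernel

/-- a coordinate permutation fixing `a48`, with a table check, gives the piece -/
theorem coord_piece (ρ : Equiv.Perm GolayPt) (hρ : ρ⁻¹ ∈ M24) (Q c ci : ℕ) (hQ : Rep Q ρ⁻¹)
    (hc : invOK c ci = true)
    (ha : ∀ i : GolayPt, (a48 : GolayPt → ℤ) (ρ⁻¹ i) = (a48 : GolayPt → ℤ) i)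
    (htab : allB (fun j => Nat.beq (pmV Q (fldW 192 LF552E j))
      (fldW 192 LF552E (g16 c j))) 552 = true) :
    ∃ x : ↥Co0, x ∈ G3 ∧ Cfsg.Agent.H93.ActsAs x ρ ∅ ∧ ActsAs552 x (permOf c ci hc) := by
  refine ⟨⟨pmPerm ρ⁻¹ hρ, pmPerm_mem _ _⟩, ?_, ?_, ?_⟩
  · rw [MulAction.mem_stabilizer_iff]
    apply Subtype.ext
    funext i
    exact ha i
  · intro v
    funext i
    show (v : GolayPt → ℤ) (ρ⁻¹ i) = signedPerm ρ ∅ (v : GolayPt → ℤ) i
    unfold signedPerm
    simp only [Finset.notMem_empty, if_false]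
    rfl
  · intro j v hv
    show pm ρ⁻¹ (v : GolayPt → ℤ) = vec (fldW 192 LF552E (g16 c j.val))
    rw [hv, ← vec_pmV hQ, Nat.eq_of_beq_eq_true ((allB_iff _ _).mp htab j.val j.isLt)]

/-- piece C3-WX -/
theorem wX_ok : StWX := coord_piece tau tauInv_mem qX cX cXi rep_qX cX_ok a48_tau tabX

/-- piece C3-WZ -/
theorem wZ_ok : StWZ := coord_piece beta betaInv_mem qZ cZ cZi rep_qZ cZ_ok a48_beta tabZ

example : Cfsg.Agent.H33.C3.StWX := wX_ok
example : Cfsg.Agent.H33.C3.StWZ := wZ_ok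

end Cfsg.Agent.H33.C3
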