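import Cfsg.Agent.H33.C3.Main
import Cfsg.Agent.H33.C3.Iso
import Cfsg.Agent.H33.C3.CentX
import Cfsg.Agent.H33.C3.CentZ
import Cfsg.Agent.H33.C3.M24Cent
import Cfsg.Agent.H33.C3.U551
import Cfsg.Agent.H33.C3.WXZ
import Cfsg.Agent.H33.C3.Chain
import Cfsg.Agent.H73.C3Rigid
import Cfsg.Agent.H8.C3Rho
import Cfsg.Agent.H8.C3WT
import Cfsg.Agent.H24.C3PermRel
import Cfsg.Agent.H24.C3NoInv

/-!
# Out(Co3) = 1 — assembly of the C3 route (helper33 design)

All twelve inputs of `Cfsg.Agent.H33.C3.out_co3` are discharged here: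
rigidity (helper73), the lattice words (helper8: rho and the word for `t`;
helper33: the words for `x` and `z`), the two centralisers, the permutation
relations and the refutation of `x ↦ x⁻¹` (helper24), the isomorphism with the
stabiliser of the fixed vector, and the chain certificate.
-/

set_option autoImplicit false

namespace Cfsg.Agent.H33.C3

/-- The outer automorphism group of Co₃ is trivial (C3 route, hypothesis-free). -/
theorem out_co3_final : Nat.card (Cfsg.Out ↥Cfsg.Spor.Co3) = 1 :=
  out_co3 Cfsg.Agent.H73.C3.rigid centX (centZ m24Cent) wX_ok wZ_ok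
    Cfsg.Agent.H8.C3.wT_ok Cfsg.Agent.H8.C3.rho u551 iso
    Cfsg.Agent.H24.C3.permRel Cfsg.Agent.H24.C3.noInv chain

end Cfsg.Agent.H33.C3
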