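import Mathlib
import Cfsg.Agent.H33.C3.Defs
import Cfsg.Agent.H33.LCo3Simple
import Cfsg.Agent.H69.MclOutCong

/-!
# The outer automorphism group of the third Conway group is trivial: assembly of the pieces
(team project S2071, helper33)
-/

set_option autoImplicit false

namespace Cfsg.Agent.H33.C3

open Cfsg Cfsg.Agent.H9 Cfsg.Agent.H33

theorem hk23 : ∀ j : ℕ, 0 < j → j < 23 →
    ∃ m : ℕ, (j * 12 ^ m) % 23 = 1 ∨ (j * 12 ^ m) % 23 = 23 - 1 := by
  have h : ∀ j : Fin 23, 0 < j.val →
      ∃ m : Fin 11, (j.val * 12 ^ m.val) % 23 = 1 ∨ (j.val * 12 ^ m.val) % 23 = 22 := by decide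
  intro j hj0 hj
  obtain ⟨m, hm⟩ := h ⟨j, hj⟩ hj0
  exact ⟨m.val, hm⟩

/-- an element of a cyclic group of order dividing 11 whose square is trivial is trivial -/
theorem eq_one_of_sq_of_pow11 {G : Type*} [Group G] (u : G) (h2 : u ^ 2 = 1) (h11 : u ^ 11 = 1) :
    u = 1 := by
  have h10 : u ^ 10 = 1 := by
    have : u ^ 10 = (u ^ 2) ^ 5 := by rw [← pow_mul]
    rw [this, h2, one_pow]
  have : u ^ 11 = u ^ 10 * u := pow_succ u 10
  rw [h10, one_mul] at this
  rw [← this, h11]

theorem zpow_pow11 {G : Type*} [Group G] (z u : G) (hz : z ^ 11 = 1)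
    (hu : u ∈ Subgroup.zpowers z) : u ^ 11 = 1 := by
  obtain ⟨n, rfl⟩ := Subgroup.mem_zpowers_iff.mp hu
  rw [← zpow_natCast, ← zpow_mul, mul_comm, zpow_mul, zpow_natCast, hz, one_zpow]

theorem mem_zpowers_sub {G : Type*} [Group G] (H : Subgroup G) (x s : ↥H)
    (h : (s : G) ∈ Subgroup.zpowers (x : G)) : s ∈ Subgroup.zpowers x := by
  obtain ⟨n, hn⟩ := Subgroup.mem_zpowers_iff.mp h
  refine Subgroup.mem_zpowers_iff.mpr ⟨n, Subtype.ext ?_⟩
  rw [← hn]
  simp

/-- The assembly: the outer automorphism group of the third Conway group is trivial. -/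
theorem out_co3 (hRigid : StRigid) (hCX : StCentX) (hCZ : StCentZ) (hWX : StWX) (hWZ : StWZ)
    (hWT : StWT) (hRho : StRho) (hU : StU551) (hIso : StIso) (hRel : StPermRel)
    (hNo : StNoInv) (hChain : StChain) : Nat.card (Cfsg.Out ↥Cfsg.Spor.Co3) = 1 := by
  obtain ⟨ρ, hρ, huniq⟩ := hRho
  obtain ⟨x0, hx0G, hx0A, hx0P⟩ := hWX
  obtain ⟨z0, hz0G, hz0A, hz0P⟩ := hWZ
  obtain ⟨t0, ht0G, ht0P⟩ := hWT
  obtain ⟨r1, r2, r3, r4, r5, r6, r7, r8, r9, r10, -⟩ := hRel
  obtain ⟨x, hxdef⟩ : ∃ x : ↥G3, x = ⟨x0, hx0G⟩ := ⟨_, rfl⟩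
  obtain ⟨z, hzdef⟩ : ∃ z : ↥G3, z = ⟨z0, hz0G⟩ := ⟨_, rfl⟩
  obtain ⟨t, htdef⟩ : ∃ t : ↥G3, t = ⟨t0, ht0G⟩ := ⟨_, rfl⟩
  have hxv : (x : ↥Co0) = x0 := by rw [hxdef]
  have hzv : (z : ↥Co0) = z0 := by rw [hzdef]
  have ex : ρ x = pX := huniq x pX (by rw [hxv]; exact hx0P)
  have ez : ρ z = pZ := huniq z pZ (by rw [hzv]; exact hz0P)
  have et : ρ t = pT := huniq t pT (by rw [htdef]; exact ht0P)
  have hsimp : IsSimpleGroup ↥G3 := co3_std_simple
  have hcard : Nat.card ↥G3 = 495766656000 := card_stab48 a48 a48_sq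
  have hker : ρ.ker = ⊥ := by
    rcases hsimp.eq_bot_or_eq_top_of_normal ρ.ker (MonoidHom.normal_ker ρ) with h | h
    · exact h
    · exfalso
      have hm : x ∈ ρ.ker := by rw [h]; trivial
      rw [MonoidHom.mem_ker, ex] at hm
      exact r2 hm
  have hinj : Function.Injective ρ := (MonoidHom.ker_eq_bot_iff ρ).mp hker
  -- relations
  have hx23 : x ^ 23 = 1 := hinj (by rw [map_pow, ex, r1, map_one])
  have hx1 : x ≠ 1 := fun h => r2 (by rw [← ex, h, map_one])
  have hxo : orderOf x = 23 := by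
    have : Fact (Nat.Prime 23) := ⟨by norm_num⟩
    exact orderOf_eq_prime hx23 hx1
  have hzx : z * x * z⁻¹ = x ^ 12 :=
    hinj (by rw [map_mul, map_mul, map_inv, map_pow, ex, ez, r4])
  have ht2 : t ^ 2 = 1 := hinj (by rw [map_pow, et, r5, map_one])
  have ht1 : t ≠ 1 := fun h => r6 (by rw [← et, h, map_one])
  have htz : t * z = z * t := hinj (by rw [map_mul, map_mul, et, ez, r7])
  have hz11 : z ^ 11 = 1 := hinj (by rw [map_pow, ez, r3, map_one])
  -- the centraliser of x
  have hcx : ∀ s : ↥G3, s * x = x * s → s ∈ Subgroup.zpowers x := by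
    intro s hs
    apply mem_zpowers_sub
    rw [hxv]
    refine hCX x0 hx0A s.1 s.2 ?_
    have h1 := congrArg Subtype.val hs
    rw [Subgroup.coe_mul, Subgroup.coe_mul, hxv] at h1
    exact h1
  -- elements of the centraliser of z fixing the point 551
  have key : ∀ s : ↥G3, s * z = z * s → (ρ s ⟨551, by norm_num⟩).val = 551 →
      s ∈ Subgroup.zpowers z := by
    intro s hs h551
    apply mem_zpowers_sub
    rw [hzv]
    have hfix : (s : ↥Co0) • Cfsg.Spor.leechU = Cfsg.Spor.leechU := by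
      apply Subtype.ext
      have h1 := hρ s ⟨551, by norm_num⟩ Cfsg.Spor.leechU hU.symm
      rw [h1, h551]
      exact hU
    refine hCZ z0 hz0A s.1 s.2 hfix ?_
    have h1 := congrArg Subtype.val hs
    rw [Subgroup.coe_mul, Subgroup.coe_mul, hzv] at h1
    exact h1
  -- the involutions of the centraliser of z
  have hcz : ∀ s : ↥G3, s * z = z * s → s ^ 2 = 1 → s = 1 ∨ s = t := by
    intro s hs hs2
    have hc : ρ s * pZ = pZ * ρ s := by rw [← ez, ← map_mul, ← map_mul, hs]
    have hZ551 : pZ ⟨551, by norm_num⟩ = ⟨551, by norm_num⟩ := Fin.ext r8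
    have hfix : pZ (ρ s ⟨551, by norm_num⟩) = ρ s ⟨551, by norm_num⟩ := by
      have h1 := congrArg (fun f : Equiv.Perm (Fin 552) => f ⟨551, by norm_num⟩) hc
      simp only [Equiv.Perm.mul_apply] at h1
      rw [hZ551] at h1
      exact h1.symm
    rcases r9 _ hfix with h0 | h551
    · right
      have hu : t * s ∈ Subgroup.zpowers z := by
        refine key (t * s) ?_ ?_
        · rw [mul_assoc, hs, ← mul_assoc, htz, mul_assoc]
        · rw [map_mul, et, Equiv.Perm.mul_apply]
          have e0 : ρ s ⟨551, by norm_num⟩ = ⟨0, by norm_num⟩ := Fin.ext h0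
          rw [e0]
          exact r10
      obtain ⟨n, hn⟩ := Subgroup.mem_zpowers_iff.mp hu
      have hcomm : t * (t * s) = (t * s) * t := by
        rw [← hn]
        have hzt : Commute t z := htz
        exact (hzt.zpow_right n).eq
      have htinv : t * t = 1 := by rw [← pow_two]; exact ht2
      have hst : s * t = t * s := by
        have h1 : t * (t * s) = s := by rw [← mul_assoc, htinv, one_mul]
        rw [h1] at hcomm
        calc s * t = (t * s * t) * t := by rw [← hcomm]
          _ = t * s * (t * t) := by group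
          _ = t * s := by rw [htinv, mul_one]
      have hu2 : (t * s) ^ 2 = 1 := by
        rw [pow_two]
        calc t * s * (t * s) = t * (s * t) * s := by group
          _ = t * (t * s) * s := by rw [hst]
          _ = (t * t) * (s * s) := by group
          _ = 1 := by rw [htinv, ← pow_two, hs2, one_mul]
      have hu1 : t * s = 1 := eq_one_of_sq_of_pow11 _ hu2 (zpow_pow11 z _ hz11 hu)
      calc s = t * (t * s) := by rw [← mul_assoc, htinv, one_mul]
        _ = t := by rw [hu1, mul_one]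
    · left
      have hu : s ∈ Subgroup.zpowers z := key s hs h551
      exact eq_one_of_sq_of_pow11 _ hs2 (zpow_pow11 z _ hz11 hu)
  -- generation
  have hgen : Subgroup.closure ({x, z, t} : Set ↥G3) = ⊤ := by
    have himg : (ρ : ↥G3 → Equiv.Perm (Fin 552)) '' ({x, z, t} : Set ↥G3) = {pX, pZ, pT} := by
      rw [Set.image_insert_eq, Set.image_insert_eq, Set.image_singleton, ex, ez, et]
    have hmap : (Subgroup.closure ({x, z, t} : Set ↥G3)).map ρ = K3 := by
      rw [MonoidHom.map_closure, himg]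
      rfl
    have hKle : K3 ≤ ρ.range := by
      rw [← hmap, MonoidHom.range_eq_map]
      exact Subgroup.map_mono le_top
    have hrange : Nat.card ↥ρ.range = 495766656000 := by
      rw [← hcard]
      exact (Nat.card_congr (MonoidHom.ofInjective hinj).toEquiv).symm
    have hKeq : K3 = ρ.range := by
      apply Subgroup.eq_of_le_of_card_ge hKle
      rw [hrange]
      exact hChain
    have h2 : (Subgroup.closure ({x, z, t} : Set ↥G3)).map ρ = (⊤ : Subgroup ↥G3).map ρ := by
      rw [hmap, hKeq, MonoidHom.range_eq_map]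
    exact Subgroup.map_injective hinj h2
  -- no automorphism inverts x and fixes z and t
  have hno : ¬ ∃ β : ↥G3 ≃* ↥G3, β x = x⁻¹ ∧ β z = z ∧ β t = t := by
    rintro ⟨β, b1, b2, b3⟩
    have h15 : (x * z * t) ^ 15 = 1 :=
      hinj (by rw [map_pow, map_mul, map_mul, ex, ez, et, hNo.1, map_one])
    have h15' : (x⁻¹ * z * t) ^ 15 = 1 := by
      have h1 := congrArg β h15
      rw [map_pow, map_mul, map_mul, b1, b2, b3, map_one] at h1
      exact h1
    apply hNo.2
    have h2 := congrArg ρ h15'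
    rw [map_pow, map_mul, map_mul, map_inv, ex, ez, et, map_one] at h2
    exact h2
  have hout : Nat.card (Cfsg.Out ↥G3) = 1 := by
    haveI : Finite ↥G3 := Nat.finite_of_card_ne_zero (by rw [hcard]; norm_num)
    exact hRigid x z t 23 12 (by norm_num) hxo (by rw [hcard]; norm_num) hcx hzx (by norm_num)
      hk23 ht1 ht2 htz hcz hgen hno
  obtain ⟨e⟩ := hIso
  rw [← hout]
  exact Cfsg.Agent.H69.Mcl.card_out_congr e

end Cfsg.Agent.H33.C3
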